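import Groth.Agent.Fano.K227.HRem

/-!
# Division of forms by `qf c` and the linear changes of variables attached to `φ`

* `exists_div`: a form of degree `d` is `H * qf c + R`, `R` a form of degree `d` of degree at most one in `X_0`;
* `eq_zero_of_dvd`: uniqueness;
* `pl`: restriction to the plane of the first three variables; `fwd hn φ`: `X_l ↦ Σ_i φ_{l,i} X_i (+ X_l if l ≥ 3)`, an
  automorphism if `del hn φ` is a unit; `pl_fwd`: `pl (fwd φ F) = F ∘ φ`;
* `exists_form`, `form_unique`: forms of degree `d` in all the variables whose restriction to the plane is divisible by `qf c`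
  are determined by their coefficients outside `Jm hn`, which are arbitrary.
-/

set_option autoImplicit false

universe u

open CategoryTheory CategoryTheory.Limits AlgebraicGeometry

namespace K227.HDiv

open K745.ConDef K745.HDef W4swstmapratcurves Groth.Agent.Lefpen.H701 K227.HRem

variable {n d : ℕ} {S : Type u} [CommRing S]

section Div

/-- Divisible up to a small form. -/
def Dv (c : Fin 5 → S) (d : ℕ) (F : MvPolynomial (Fin 3) S) : Prop :=
  ∃ H R : MvPolynomial (Fin 3) S, F = H * qf c + R ∧ R.IsHomogeneous d ∧ R.degreeOf 0 ≤ 1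

theorem Dv.add {c : Fin 5 → S} {F G : MvPolynomial (Fin 3) S} (hF : Dv c d F) (hG : Dv c d G) :
    Dv c d (F + G) := by
  obtain ⟨H, R, rfl, hR, hR'⟩ := hF
  obtain ⟨H₂, R₂, rfl, hR₂, hR₂'⟩ := hG
  exact ⟨H + H₂, R + R₂, by ring, hR.add hR₂, (MvPolynomial.degreeOf_add_le _ _ _).trans (max_le hR' hR₂')⟩

theorem dv_zero (c : Fin 5 → S) : Dv c d 0 :=
  ⟨0, 0, by ring, MvPolynomial.isHomogeneous_zero _ _ _, by simp⟩

theorem dv_sum {c : Fin 5 → S} {ι : Type*} (s : Finset ι) (f : ι → MvPolynomial (Fin 3) S)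
    (h : ∀ i ∈ s, Dv c d (f i)) : Dv c d (∑ i ∈ s, f i) := by
  classical
  induction s using Finset.induction_on with
  | empty => rw [Finset.sum_empty]; exact dv_zero c
  | insert a s ha ih =>
    rw [Finset.sum_insert ha]
    exact (h a (Finset.mem_insert_self _ _)).add (ih fun i hi => h i (Finset.mem_insert_of_mem hi))

theorem dv_monomial (c : Fin 5 → S) (m : ℕ) : ∀ (α : Fin 3 →₀ ℕ) (_ : α 0 ≤ m) (_ : α.degree = d) (a : S),
    Dv c d (MvPolynomial.monomial α a) := by
  induction m using Nat.strong_induction_on with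
  | _ m ih =>
  intro α hα hd a
  by_cases h1 : α 0 ≤ 1
  · refine ⟨0, MvPolynomial.monomial α a, by ring, MvPolynomial.isHomogeneous_monomial a hd, ?_⟩
    rw [MvPolynomial.degreeOf_le_iff]
    intro β hβ
    have := MvPolynomial.support_monomial_subset hβ
    rw [Finset.mem_singleton] at this
    rwa [this]
  · push Not at h1
    obtain ⟨α', rfl⟩ : ∃ α', α = α' + Finsupp.single 0 2 := by
      refine ⟨α - Finsupp.single 0 2, (tsub_add_cancel_of_le ?_).symm⟩
      rw [Finsupp.single_le_iff]
      omega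
    have hd' : α'.degree + 2 = d := by
      rw [← hd, map_add, Finsupp.degree_single]
    have hm : α' 0 + 2 ≤ m := by simpa using hα
    have key : MvPolynomial.monomial (α' + Finsupp.single 0 2) a = MvPolynomial.monomial α' a * qf c +
        (MvPolynomial.monomial (α' + Finsupp.single 0 1 + Finsupp.single 1 1) (-(a * c 0)) +
        (MvPolynomial.monomial (α' + Finsupp.single 0 1 + Finsupp.single 2 1) (-(a * c 1)) +
        (MvPolynomial.monomial (α' + Finsupp.single 1 2) (-(a * c 2)) +
        (MvPolynomial.monomial (α' + Finsupp.single 1 1 + Finsupp.single 2 1) (-(a * c 3)) +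
        MvPolynomial.monomial (α' + Finsupp.single 2 2) (-(a * c 4)))))) := by
      have e (β γ : Fin 3 →₀ ℕ) (b : S) : MvPolynomial.monomial (β + γ) b =
          MvPolynomial.monomial β b * MvPolynomial.monomial γ 1 := by
        rw [MvPolynomial.monomial_mul, mul_one]
      have x (i : Fin 3) : (MvPolynomial.monomial (Finsupp.single i 1) 1 : MvPolynomial (Fin 3) S) =
        MvPolynomial.X i := rfl
      have x2 (i : Fin 3) : (MvPolynomial.monomial (Finsupp.single i 2) 1 : MvPolynomial (Fin 3) S) =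
        MvPolynomial.X i ^ 2 := by rw [MvPolynomial.X_pow_eq_monomial]
      have m' (b : S) : MvPolynomial.monomial α' (-(a * b)) = -(MvPolynomial.monomial α' a * MvPolynomial.C b) := by
        rw [mul_comm (MvPolynomial.monomial α' a), MvPolynomial.C_mul_monomial, map_neg, mul_comm]
      simp only [e, x, x2, m', qf]
      ring
    have step (β : Fin 3 →₀ ℕ) (b : S) (h0 : β 0 < m) (hb : β.degree = d) :
        Dv c d (MvPolynomial.monomial β b) := ih (β 0) h0 β le_rfl hb b
    rw [key]
    have hq : Dv c d (MvPolynomial.monomial α' a * qf c) :=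
      ⟨MvPolynomial.monomial α' a, 0, by ring, MvPolynomial.isHomogeneous_zero _ _ _, by simp⟩
    refine hq.add ((step _ _ ?_ ?_).add ((step _ _ ?_ ?_).add ((step _ _ ?_ ?_).add ((step _ _ ?_ ?_).add
      (step _ _ ?_ ?_)))))
    all_goals simp only [map_add, Finsupp.degree_single, Finsupp.add_apply, Finsupp.single_apply, Fin.isValue]
    all_goals first | omega | (simp; omega)

theorem degree_of_mem {σ : Type*} {F : MvPolynomial σ S} (hF : F.IsHomogeneous d) {α : σ →₀ ℕ}
    (hα : α ∈ F.support) : α.degree = d := by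
  rw [Finsupp.degree_eq_weight_one]
  exact hF (MvPolynomial.mem_support_iff.1 hα)

/-- Division with remainder of forms. -/
theorem exists_div (c : Fin 5 → S) {F : MvPolynomial (Fin 3) S} (hF : F.IsHomogeneous d) : Dv c d F := by
  rw [F.as_sum]
  exact dv_sum _ _ fun α hα => dv_monomial c (α 0) α le_rfl (degree_of_mem hF hα) _

theorem eq_zero_of_dvd (c : Fin 5 → S) {R : MvPolynomial (Fin 3) S} (h : qf c ∣ R) (hR : R.degreeOf 0 ≤ 1) :
    R = 0 := by
  nontriviality S
  by_contra h0
  have h1 : MvPolynomial.finSuccEquiv S 2 R ≠ 0 := by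
    rwa [Ne, map_eq_zero_iff _ (MvPolynomial.finSuccEquiv S 2).injective]
  refine (monic_fse_qf c).not_dvd_of_degree_lt h1 ?_ (map_dvd (MvPolynomial.finSuccEquiv S 2) h)
  rw [MvPolynomial.degree_finSuccEquiv h0, Polynomial.degree_eq_natDegree (monic_fse_qf c).ne_zero,
    natDegree_fse_qf]
  exact_mod_cast Nat.lt_succ_of_le hR

end Div

section Lin

variable (hn : 2 ≤ n)

/-- Restriction to the plane of the first three coordinates. -/
noncomputable def pl : MvPolynomial (Fin (n + 1)) S →ₐ[S] MvPolynomial (Fin 3) S :=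
  MvPolynomial.aeval fun l => if h : l.val < 3 then MvPolynomial.X ⟨l.val, h⟩ else 0

/-- `X_l ↦ Σ_i φ_{l,i} X_i (+ X_l if l ≥ 3)`. -/
noncomputable def fwd (φ : Fin (n + 1) → Fin 3 → S) : MvPolynomial (Fin (n + 1)) S →ₐ[S] MvPolynomial (Fin (n + 1)) S :=
  MvPolynomial.aeval fun l => ∑ i : Fin 3, MvPolynomial.C (φ l i) * MvPolynomial.X (row3 hn i) +
    if l.val < 3 then 0 else MvPolynomial.X l

theorem pl_row3 (i : Fin 3) : pl (MvPolynomial.X (row3 hn i) : MvPolynomial (Fin (n + 1)) S) = MvPolynomial.X i := by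
  simp [pl, row3]

theorem pl_X_of_le {l : Fin (n + 1)} (h : ¬ l.val < 3) : pl (MvPolynomial.X l : MvPolynomial (Fin (n + 1)) S) = 0 := by
  simp [pl, h]

theorem pl_fwd (φ : Fin (n + 1) → Fin 3 → S) (F : MvPolynomial (Fin (n + 1)) S) :
    pl (fwd hn φ F) = subF (RingHom.id S) F φ := by
  have h : pl.comp (fwd hn φ) = MvPolynomial.aeval (fun l => lin3 (φ l)) := by
    apply MvPolynomial.algHom_ext
    intro l
    rw [AlgHom.comp_apply, fwd, MvPolynomial.aeval_X, MvPolynomial.aeval_X, map_add, map_sum, lin3]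
    have h0 : pl (if l.val < 3 then 0 else MvPolynomial.X l : MvPolynomial (Fin (n + 1)) S) = 0 := by
      split_ifs with h
      · exact map_zero _
      · exact pl_X_of_le h
    rw [h0, add_zero]
    refine Finset.sum_congr rfl fun i _ => ?_
    rw [map_mul, pl_row3]
    congr 1
    exact (pl (n := n) (S := S)).commutes (φ l i)
  have := DFunLike.congr_fun h F
  exact this

/-- The matrix of the first three rows. -/
def M3 (φ : Fin (n + 1) → Fin 3 → S) : Matrix (Fin 3) (Fin 3) S := Matrix.of fun i j => φ (row3 hn i) j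

theorem det_M3 (φ : Fin (n + 1) → Fin 3 → S) : (M3 hn φ).det = del hn φ := rfl

/-- The inverse of `fwd`. -/
noncomputable def bwd (φ : Fin (n + 1) → Fin 3 → S) (N : Matrix (Fin 3) (Fin 3) S) :
    MvPolynomial (Fin (n + 1)) S →ₐ[S] MvPolynomial (Fin (n + 1)) S :=
  MvPolynomial.aeval fun l => if h : l.val < 3 then
      ∑ j : Fin 3, MvPolynomial.C (N ⟨l.val, h⟩ j) * MvPolynomial.X (row3 hn j)
    else MvPolynomial.X l - ∑ i : Fin 3, ∑ j : Fin 3, MvPolynomial.C (φ l i * N i j) * MvPolynomial.X (row3 hn j)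

theorem bwd_row3 (φ : Fin (n + 1) → Fin 3 → S) (N : Matrix (Fin 3) (Fin 3) S) (i : Fin 3) :
    bwd hn φ N (MvPolynomial.X (row3 hn i)) = ∑ j : Fin 3, MvPolynomial.C (N i j) * MvPolynomial.X (row3 hn j) := by
  rw [bwd, MvPolynomial.aeval_X, dif_pos (show (row3 hn i).val < 3 from i.2)]
  rfl

theorem fwd_row3 (φ : Fin (n + 1) → Fin 3 → S) (i : Fin 3) :
    fwd hn φ (MvPolynomial.X (row3 hn i)) = ∑ j : Fin 3, MvPolynomial.C (M3 hn φ i j) * MvPolynomial.X (row3 hn j) := by
  rw [fwd, MvPolynomial.aeval_X, if_pos (show (row3 hn i).val < 3 from i.2), add_zero]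
  rfl

theorem eq_row3 {l : Fin (n + 1)} (h : l.val < 3) : l = row3 hn ⟨l.val, h⟩ := rfl

private theorem sum_mul (A B : Matrix (Fin 3) (Fin 3) S) (hAB : A * B = 1) (i : Fin 3) :
    ∑ j : Fin 3, MvPolynomial.C (A i j) * ∑ k : Fin 3, MvPolynomial.C (B j k) *
      (MvPolynomial.X (row3 hn k) : MvPolynomial (Fin (n + 1)) S) = MvPolynomial.X (row3 hn i) := by
  simp only [Finset.mul_sum]
  rw [Finset.sum_comm]
  have h (k : Fin 3) : ∑ j : Fin 3, MvPolynomial.C (A i j) * (MvPolynomial.C (B j k) *
      (MvPolynomial.X (row3 hn k) : MvPolynomial (Fin (n + 1)) S)) =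
      MvPolynomial.C ((1 : Matrix (Fin 3) (Fin 3) S) i k) * MvPolynomial.X (row3 hn k) := by
    rw [← hAB, Matrix.mul_apply, map_sum, Finset.sum_mul]
    refine Finset.sum_congr rfl fun j _ => ?_
    rw [map_mul, mul_assoc]
  rw [Finset.sum_congr rfl fun k _ => h k, Finset.sum_eq_single i]
  · simp
  · intro k _ hk
    rw [Matrix.one_apply_ne (Ne.symm hk), map_zero, zero_mul]
  · intro hi
    exact absurd (Finset.mem_univ i) hi

theorem bwd_fwd (φ : Fin (n + 1) → Fin 3 → S) (N : Matrix (Fin 3) (Fin 3) S) (hN : M3 hn φ * N = 1)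
    (F : MvPolynomial (Fin (n + 1)) S) : bwd hn φ N (fwd hn φ F) = F := by
  have h : (bwd hn φ N).comp (fwd hn φ) = AlgHom.id S _ := by
    apply MvPolynomial.algHom_ext
    intro l
    rw [AlgHom.comp_apply, AlgHom.id_apply]
    by_cases hl : l.val < 3
    · rw [eq_row3 hn hl, fwd_row3, map_sum]
      simp only [map_mul, bwd_row3, MvPolynomial.algHom_C, MvPolynomial.algebraMap_eq]
      exact sum_mul hn _ _ hN _
    · rw [fwd, MvPolynomial.aeval_X, if_neg hl, map_add, map_sum]
      simp only [map_mul, bwd_row3, MvPolynomial.algHom_C, MvPolynomial.algebraMap_eq]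
      rw [bwd, MvPolynomial.aeval_X, dif_neg hl]
      simp only [map_mul, Finset.mul_sum, mul_assoc]
      ring
  exact DFunLike.congr_fun h F

theorem fwd_bwd (φ : Fin (n + 1) → Fin 3 → S) (N : Matrix (Fin 3) (Fin 3) S) (hN : N * M3 hn φ = 1)
    (F : MvPolynomial (Fin (n + 1)) S) : fwd hn φ (bwd hn φ N F) = F := by
  have h : (fwd hn φ).comp (bwd hn φ N) = AlgHom.id S _ := by
    apply MvPolynomial.algHom_ext
    intro l
    rw [AlgHom.comp_apply, AlgHom.id_apply]
    by_cases hl : l.val < 3
    · rw [eq_row3 hn hl, bwd_row3, map_sum]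
      simp only [map_mul, fwd_row3, MvPolynomial.algHom_C, MvPolynomial.algebraMap_eq]
      exact sum_mul hn _ _ hN _
    · rw [bwd, MvPolynomial.aeval_X, dif_neg hl, map_sub, map_sum]
      have h1 (i : Fin 3) : fwd hn φ (∑ j : Fin 3, MvPolynomial.C (φ l i * N i j) *
          (MvPolynomial.X (row3 hn j) : MvPolynomial (Fin (n + 1)) S)) =
          MvPolynomial.C (φ l i) * MvPolynomial.X (row3 hn i) := by
        rw [← sum_mul hn _ _ hN i, Finset.mul_sum, map_sum]
        refine Finset.sum_congr rfl fun j _ => ?_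
        rw [map_mul, fwd_row3, MvPolynomial.algHom_C, MvPolynomial.algebraMap_eq, map_mul, mul_assoc]
      rw [Finset.sum_congr rfl fun i _ => h1 i, fwd, MvPolynomial.aeval_X, if_neg hl]
      ring
  exact DFunLike.congr_fun h F

theorem isHomogeneous_pl {F : MvPolynomial (Fin (n + 1)) S} (hF : F.IsHomogeneous d) : (pl F).IsHomogeneous d := by
  have := hF.aeval (fun l : Fin (n + 1) => if h : l.val < 3 then (MvPolynomial.X ⟨l.val, h⟩ : MvPolynomial (Fin 3) S)
    else 0) (n := 1) (fun l => by
      split_ifs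
      · exact MvPolynomial.isHomogeneous_X _ _
      · exact MvPolynomial.isHomogeneous_zero _ _ _)
  rwa [one_mul] at this

theorem isHomogeneous_lin (v : Fin 3 → S) :
    (∑ j : Fin 3, MvPolynomial.C (v j) * MvPolynomial.X (row3 hn j) : MvPolynomial (Fin (n + 1)) S).IsHomogeneous 1 :=
  MvPolynomial.IsHomogeneous.sum _ _ _ fun _ _ => MvPolynomial.isHomogeneous_C_mul_X _ _

theorem isHomogeneous_fwd (φ : Fin (n + 1) → Fin 3 → S) {F : MvPolynomial (Fin (n + 1)) S}
    (hF : F.IsHomogeneous d) : (fwd hn φ F).IsHomogeneous d := by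
  have := hF.aeval (fun l : Fin (n + 1) => ∑ i : Fin 3, MvPolynomial.C (φ l i) * MvPolynomial.X (row3 hn i) +
    if l.val < 3 then 0 else (MvPolynomial.X l : MvPolynomial (Fin (n + 1)) S)) (n := 1) (fun l => by
      refine (isHomogeneous_lin hn _).add ?_
      split_ifs
      · exact MvPolynomial.isHomogeneous_zero _ _ _
      · exact MvPolynomial.isHomogeneous_X _ _)
  rwa [one_mul] at this

theorem isHomogeneous_bwd (φ : Fin (n + 1) → Fin 3 → S) (N : Matrix (Fin 3) (Fin 3) S)
    {F : MvPolynomial (Fin (n + 1)) S} (hF : F.IsHomogeneous d) : (bwd hn φ N F).IsHomogeneous d := by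
  have := hF.aeval (fun l : Fin (n + 1) => if h : l.val < 3 then
      ∑ j : Fin 3, MvPolynomial.C (N ⟨l.val, h⟩ j) * (MvPolynomial.X (row3 hn j) : MvPolynomial (Fin (n + 1)) S)
    else MvPolynomial.X l - ∑ i : Fin 3, ∑ j : Fin 3, MvPolynomial.C (φ l i * N i j) * MvPolynomial.X (row3 hn j))
    (n := 1) (fun l => by
      split_ifs
      · exact isHomogeneous_lin hn _
      · exact (MvPolynomial.isHomogeneous_X _ _).sub
          (MvPolynomial.IsHomogeneous.sum _ _ _ fun _ _ => isHomogeneous_lin hn _))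
  rwa [one_mul] at this

theorem map_fwd {S' : Type u} [CommRing S'] (β : S →+* S') (φ : Fin (n + 1) → Fin 3 → S)
    (F : MvPolynomial (Fin (n + 1)) S) :
    (fwd hn φ F).map β = fwd hn (fun l i => β (φ l i)) (F.map β) := by
  have h : (MvPolynomial.map β).comp (fwd hn φ : MvPolynomial (Fin (n + 1)) S →+* MvPolynomial (Fin (n + 1)) S) =
      (fwd hn (fun l i => β (φ l i)) : MvPolynomial (Fin (n + 1)) S' →+* MvPolynomial (Fin (n + 1)) S').comp
        (MvPolynomial.map β) := by
    apply MvPolynomial.ringHom_ext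
    · intro r
      simp [fwd]
    · intro l
      simp only [RingHom.comp_apply, RingHom.coe_coe, MvPolynomial.map_X, fwd, MvPolynomial.aeval_X, map_add, map_sum,
        map_mul, MvPolynomial.map_C]
      congr 1
      split_ifs <;> simp
  exact RingHom.congr_fun h F

theorem map_pl {S' : Type u} [CommRing S'] (β : S →+* S') (F : MvPolynomial (Fin (n + 1)) S) :
    (pl F).map β = pl (F.map β) := by
  have h : (MvPolynomial.map β).comp (pl : MvPolynomial (Fin (n + 1)) S →ₐ[S] MvPolynomial (Fin 3) S).toRingHom =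
      (pl : MvPolynomial (Fin (n + 1)) S' →ₐ[S'] MvPolynomial (Fin 3) S').toRingHom.comp (MvPolynomial.map β) := by
    apply MvPolynomial.ringHom_ext
    · intro r
      simp [pl]
    · intro l
      simp only [RingHom.comp_apply, AlgHom.toRingHom_eq_coe, RingHom.coe_coe, MvPolynomial.map_X, pl,
        MvPolynomial.aeval_X]
      split_ifs <;> simp
  exact RingHom.congr_fun h F

end Lin

end K227.HDiv
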