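import Groth.Agent.Fano.K745.HDef
import Mathlib.Tactic.ComputeDegree

/-!
# The remainder modulo `qf c` and the universal property of `RC G`

* `dvd_iff_remCoeff`, `map_remCoeff` (H15); `existsUnique_RC`, `dvd_of_RC` (H16); `exists_ringEquiv_RC` (H3b).
-/

set_option autoImplicit false

universe u

open CategoryTheory CategoryTheory.Limits AlgebraicGeometry

namespace K227.HRem

open K745.ConDef K745.HDef W4swstmapratcurves Groth.Agent.Lefpen.H701

variable {n d : ℕ}

section Rem

variable {A B : Type u} [CommRing A] [CommRing B]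

theorem fse_C (a : A) : MvPolynomial.finSuccEquiv A 2 (MvPolynomial.C a) = Polynomial.C (MvPolynomial.C a) :=
  (MvPolynomial.finSuccEquiv A 2).commutes a

/-- `qf c` as a polynomial in the first variable. -/
theorem fse_qf (c : Fin 5 → A) : MvPolynomial.finSuccEquiv A 2 (qf c) =
    Polynomial.X ^ 2 + Polynomial.C (MvPolynomial.C (c 0) * MvPolynomial.X 0 +
      MvPolynomial.C (c 1) * MvPolynomial.X 1) * Polynomial.X +
    Polynomial.C (MvPolynomial.C (c 2) * MvPolynomial.X 0 ^ 2 +
      MvPolynomial.C (c 3) * (MvPolynomial.X 0 * MvPolynomial.X 1) +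
      MvPolynomial.C (c 4) * MvPolynomial.X 1 ^ 2) := by
  have h1 : MvPolynomial.finSuccEquiv A 2 (MvPolynomial.X 1) = Polynomial.C (MvPolynomial.X 0) :=
    MvPolynomial.finSuccEquiv_X_succ (j := (0 : Fin 2))
  have h2 : MvPolynomial.finSuccEquiv A 2 (MvPolynomial.X 2) = Polynomial.C (MvPolynomial.X 1) :=
    MvPolynomial.finSuccEquiv_X_succ (j := (1 : Fin 2))
  simp only [qf, map_add, map_mul, map_pow, fse_C, h1, h2, MvPolynomial.finSuccEquiv_X_zero]
  ring

theorem monic_fse_qf (c : Fin 5 → A) : (MvPolynomial.finSuccEquiv A 2 (qf c)).Monic := by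
  rw [fse_qf]
  monicity!

theorem natDegree_fse_qf [Nontrivial A] (c : Fin 5 → A) : (MvPolynomial.finSuccEquiv A 2 (qf c)).natDegree = 2 := by
  rw [fse_qf]
  compute_degree!

/-- Node H15. -/
theorem dvd_iff_remCoeff (c : Fin 5 → A) (F : MvPolynomial (Fin 3) A) :
    qf c ∣ F ↔ ∀ m e, remCoeff c F m e = 0 := by
  rw [← map_dvd_iff (MvPolynomial.finSuccEquiv A 2), ← Polynomial.modByMonic_eq_zero_iff_dvd (monic_fse_qf c)]
  constructor
  · intro h m e
    rw [remCoeff, h]
    simp
  · intro h
    apply Polynomial.ext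
    intro m
    apply MvPolynomial.ext
    intro e
    rw [Polynomial.coeff_zero, MvPolynomial.coeff_zero]
    exact h m e

theorem map_fse (β : A →+* B) (F : MvPolynomial (Fin 3) A) :
    (MvPolynomial.finSuccEquiv A 2 F).map (MvPolynomial.map β) = MvPolynomial.finSuccEquiv B 2 (F.map β) := by
  induction F using MvPolynomial.induction_on with
  | C a => simp [fse_C]
  | add p q hp hq => simp only [map_add, Polynomial.map_add, hp, hq]
  | mul_X p i hp =>
    rw [map_mul, Polynomial.map_mul, hp, map_mul, map_mul, MvPolynomial.map_X]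
    congr 1
    refine Fin.cases ?_ (fun j => ?_) i
    · simp [MvPolynomial.finSuccEquiv_X_zero]
    · simp [MvPolynomial.finSuccEquiv_X_succ]

/-- Node H15. -/
theorem map_remCoeff (β : A →+* B) (c : Fin 5 → A) (F : MvPolynomial (Fin 3) A) (m : ℕ) (e : Fin 2 →₀ ℕ) :
    β (remCoeff c F m e) = remCoeff (fun i => β (c i)) (F.map β) m e := by
  rw [remCoeff, remCoeff, ← map_qf, ← map_fse, ← map_fse, ← Polynomial.map_modByMonic _ (monic_fse_qf c),
    Polynomial.coeff_map, MvPolynomial.coeff_map]

theorem map_lin3 (β : A →+* B) (v : Fin 3 → A) : (lin3 v).map β = lin3 (fun i => β (v i)) := by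
  simp [lin3]

theorem map_subF {R : Type u} [CommRing R] (ρ : R →+* A) (β : A →+* B) (G : MvPolynomial (Fin (n + 1)) R)
    (φ : Fin (n + 1) → Fin 3 → A) :
    (subF ρ G φ).map β = subF (β.comp ρ) G (fun l i => β (φ l i)) := by
  rw [subF, subF, MvPolynomial.hom_eval₂]
  congr 1
  · ext a
    simp
  · funext l
    exact map_lin3 β _

theorem subF_map {R R' : Type u} [CommRing R] [CommRing R'] (ρ : R →+* R') (σ : R' →+* A)
    (G : MvPolynomial (Fin (n + 1)) R) (φ : Fin (n + 1) → Fin 3 → A) :
    subF σ (G.map ρ) φ = subF (σ.comp ρ) G φ := by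
  rw [subF, subF, MvPolynomial.eval₂_map]
  rfl

end Rem

section RC

theorem dvd_univ {R : Type u} [CommRing R] (G : MvPolynomial (Fin (n + 1)) R) :
    qf (fun i => mkR G (cU n R i)) ∣
      subF ((mkR G).comp MvPolynomial.C) G (fun l i => mkR G (φU n R l i)) := by
  rw [dvd_iff_remCoeff]
  intro m e
  rw [← map_subF, ← map_remCoeff]
  exact Ideal.Quotient.eq_zero_iff_mem.2 (Ideal.subset_span ⟨m, e, rfl⟩)

theorem dvd_of_RC {R B : Type u} [CommRing R] [CommRing B] (G : MvPolynomial (Fin (n + 1)) R)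
    (α : RC G →+* B) : qf (fun i => α (mkR G (cU n R i))) ∣
      subF (α.comp (algebraMap R (RC G))) G (fun l i => α (mkR G (φU n R l i))) := by
  have h := map_dvd (MvPolynomial.map (σ := Fin 3) α) (dvd_univ G)
  rw [map_qf, map_subF] at h
  exact h

theorem ringHom_ext_RC {R B : Type u} [CommRing R] [CommRing B] {G : MvPolynomial (Fin (n + 1)) R}
    {α β : RC G →+* B} (h : α.comp (algebraMap R (RC G)) = β.comp (algebraMap R (RC G)))
    (hc : ∀ i, α (mkR G (cU n R i)) = β (mkR G (cU n R i)))
    (hφ : ∀ l i, α (mkR G (φU n R l i)) = β (mkR G (φU n R l i))) : α = β := by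
  apply Ideal.Quotient.ringHom_ext
  apply MvPolynomial.ringHom_ext
  · intro r
    exact RingHom.congr_fun h r
  · rintro (i | ⟨l, i⟩)
    · exact hc i
    · exact hφ l i

/-- Node H16. -/
theorem existsUnique_RC {R B : Type u} [CommRing R] [CommRing B] (ρ : R →+* B) (G : MvPolynomial (Fin (n + 1)) R)
    (c : Fin 5 → B) (φ : Fin (n + 1) → Fin 3 → B) (h : qf c ∣ subF ρ G φ) :
    ∃! α : RC G →+* B, α.comp (algebraMap R (RC G)) = ρ ∧ (∀ i, α (mkR G (cU n R i)) = c i) ∧
      ∀ l i, α (mkR G (φU n R l i)) = φ l i := by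
  let α₀ : AC n R →+* B := MvPolynomial.eval₂Hom ρ (Sum.elim c fun p => φ p.1 p.2)
  have h0 : α₀.comp MvPolynomial.C = ρ := by
    ext r
    simp [α₀]
  have hc0 (i : Fin 5) : α₀ (cU n R i) = c i := by simp [α₀, cU]
  have hφ0 (l : Fin (n + 1)) (i : Fin 3) : α₀ (φU n R l i) = φ l i := by simp [α₀, φU]
  have hk : ∀ a ∈ conIdeal G, α₀ a = 0 := by
    intro a ha
    refine (Ideal.span_le (I := RingHom.ker α₀)).2 ?_ ha
    rintro _ ⟨m, e, rfl⟩
    rw [SetLike.mem_coe, RingHom.mem_ker, map_remCoeff, map_subF, h0]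
    simp only [hc0, hφ0]
    exact (dvd_iff_remCoeff c _).1 h m e
  refine ⟨Ideal.Quotient.lift (conIdeal G) α₀ hk, ⟨?_, fun i => ?_, fun l i => ?_⟩, ?_⟩
  · ext r
    have : (Ideal.Quotient.lift (conIdeal G) α₀ hk) (algebraMap R (RC G) r) = α₀ (MvPolynomial.C r) := rfl
    rw [RingHom.comp_apply, this, ← h0]
    rfl
  · exact hc0 i
  · exact hφ0 l i
  · rintro β ⟨h1, h2, h3⟩
    refine ringHom_ext_RC ?_ ?_ ?_
    · rw [h1]
      ext r
      have : (Ideal.Quotient.lift (conIdeal G) α₀ hk) (algebraMap R (RC G) r) = α₀ (MvPolynomial.C r) := rfl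
      rw [RingHom.comp_apply, this, ← h0]
      rfl
    · intro i
      rw [h2]
      exact (hc0 i).symm
    · intro l i
      rw [h3]
      exact (hφ0 l i).symm

/-- Base change from a universal property. -/
theorem exists_baseChange {R R' S S' : Type u} [CommRing R] [CommRing R'] [CommRing S] [CommRing S'] [Algebra R R']
    [Algebra R S] [Algebra R' S'] (f : S →+* S')
    (hf : f.comp (algebraMap R S) = (algebraMap R' S').comp (algebraMap R R'))
    (hex : ∀ (B : Type u) [CommRing B] (β : R' →+* B) (α : S →+* B),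
      α.comp (algebraMap R S) = β.comp (algebraMap R R') → ∃ g : S' →+* B, g.comp (algebraMap R' S') = β ∧ g.comp f = α)
    (hun : ∀ (B : Type u) [CommRing B] (g g' : S' →+* B), g.comp (algebraMap R' S') = g'.comp (algebraMap R' S') →
      g.comp f = g'.comp f → g = g') :
    ∃ e : TensorProduct R R' S ≃ₐ[R'] S', ∀ s : S, e (1 ⊗ₜ s) = f s := by
  let _ : Algebra R S' := ((algebraMap R' S').comp (algebraMap R R')).toAlgebra
  have : IsScalarTower R R' S' := IsScalarTower.of_algebraMap_eq fun _ => rfl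
  let fA : S →ₐ[R] S' := { f with commutes' := fun r => RingHom.congr_fun hf r }
  let Φ : TensorProduct R R' S →ₐ[R'] S' :=
    Algebra.TensorProduct.lift (Algebra.ofId R' S') fA (fun _ _ => Commute.all _ _)
  have hΦ (s : S) : Φ (1 ⊗ₜ s) = f s := by
    change Algebra.TensorProduct.lift _ _ _ _ = _
    rw [Algebra.TensorProduct.lift_tmul, map_one, one_mul]
    rfl
  let il : R' →ₐ[R'] TensorProduct R R' S := Algebra.TensorProduct.includeLeft
  let ir : S →ₐ[R] TensorProduct R R' S := Algebra.TensorProduct.includeRight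
  have hir : (ir : S →+* TensorProduct R R' S).comp (algebraMap R S) =
      (il : R' →+* TensorProduct R R' S).comp (algebraMap R R') := by
    ext r
    exact (ir.commutes r).trans (((il.restrictScalars R).commutes r).symm)
  obtain ⟨g, hg1, hg2⟩ := hex _ (il : R' →+* TensorProduct R R' S) (ir : S →+* TensorProduct R R' S) hir
  have hΦl (r : R') : Φ (il r) = algebraMap R' S' r := by
    have : il r = algebraMap R' _ r := il.commutes r
    rw [this, Φ.commutes]
  let Ψ : S' →ₐ[R'] TensorProduct R R' S := { g with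
    commutes' := fun r => (RingHom.congr_fun hg1 r).trans (il.commutes r) }
  have hΨ (x : S') : Ψ x = g x := rfl
  have h1 : ∀ x, Φ (Ψ x) = x := by
    have := hun S' ((Φ : TensorProduct R R' S →+* S').comp g) (RingHom.id S') (by
      ext r
      have h := RingHom.congr_fun hg1 r
      change Φ (g (algebraMap R' S' r)) = algebraMap R' S' r
      exact (congrArg Φ h).trans (hΦl r)) (by
      ext s
      have h := RingHom.congr_fun hg2 s
      change Φ (g (f s)) = f s
      refine (congrArg Φ h).trans ?_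
      exact hΦ s)
    intro x
    exact RingHom.congr_fun this x
  have h2 : Ψ.comp Φ = AlgHom.id R' (TensorProduct R R' S) := by
    apply Algebra.TensorProduct.ext_ring
    ext s
    change Ψ (Φ (1 ⊗ₜ s)) = 1 ⊗ₜ s
    rw [hΦ, hΨ]
    exact RingHom.congr_fun hg2 s
  exact ⟨AlgEquiv.ofAlgHom Φ Ψ (AlgHom.ext h1) h2, hΦ⟩

/-- Node H3b: the formation of `RC G` commutes with base change. -/
theorem exists_ringEquiv_RC {R R' : Type u} [CommRing R] [CommRing R'] [Algebra R R']
    (G : MvPolynomial (Fin (n + 1)) R) :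
    ∃ e : TensorProduct R R' (RC G) ≃ₐ[R'] RC (G.map (algebraMap R R')),
      ∀ a : AC n R, e (1 ⊗ₜ mkR G a) = mkR (G.map (algebraMap R R')) (MvPolynomial.map (algebraMap R R') a) := by
  let G' := G.map (algebraMap R R')
  let S := RC G'
  let ρ' : R →+* S := (algebraMap R' S).comp (algebraMap R R')
  have hdvd : qf (fun i => mkR G' (cU n R' i)) ∣ subF ρ' G (fun l i => mkR G' (φU n R' l i)) := by
    have := dvd_univ G'
    rw [subF_map] at this
    exact this
  obtain ⟨f, ⟨hf1, hf2, hf3⟩, -⟩ := existsUnique_RC ρ' G _ _ hdvd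
  obtain ⟨e, he⟩ := exists_baseChange (R := R) (R' := R') (S := RC G) (S' := S) f hf1 (by
    intro B _ β α hαβ
    have hdvd' : qf (fun i => α (mkR G (cU n R i))) ∣ subF β G' (fun l i => α (mkR G (φU n R l i))) := by
      have := dvd_of_RC G α
      rw [hαβ] at this
      rw [subF_map]
      exact this
    obtain ⟨g, ⟨hg1, hg2, hg3⟩, -⟩ := existsUnique_RC β G' _ _ hdvd'
    refine ⟨g, hg1, ringHom_ext_RC ?_ ?_ ?_⟩
    · rw [RingHom.comp_assoc, hf1, ← RingHom.comp_assoc, hg1, hαβ]
    · intro i
      rw [RingHom.comp_apply, hf2, hg2]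
    · intro l i
      rw [RingHom.comp_apply, hf3, hg3]) (by
    intro B _ g g' h1 h2
    refine ringHom_ext_RC h1 ?_ ?_
    · intro i
      rw [← hf2, ← RingHom.comp_apply, h2]
      rfl
    · intro l i
      rw [← hf3, ← RingHom.comp_apply, h2]
      rfl)
  refine ⟨e, fun a => (he _).trans ?_⟩
  have : f.comp (mkR G) = (mkR G').comp (MvPolynomial.map (algebraMap R R')) := by
    apply MvPolynomial.ringHom_ext
    · intro r
      have := RingHom.congr_fun hf1 r
      refine this.trans ?_
      change _ = mkR G' (MvPolynomial.map (algebraMap R R') (MvPolynomial.C r))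
      rw [MvPolynomial.map_C]
      rfl
    · rintro (i | ⟨l, i⟩)
      · rw [RingHom.comp_apply, RingHom.comp_apply, MvPolynomial.map_X]
        exact hf2 i
      · rw [RingHom.comp_apply, RingHom.comp_apply, MvPolynomial.map_X]
        exact hf3 l i
  exact RingHom.congr_fun this a

end RC

end K227.HRem
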