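import Groth.Agent.Fano.K227.HDiv
import Mathlib.RingTheory.Polynomial.UniqueFactorization
import Mathlib.RingTheory.IntegralClosure.IntegrallyClosed

/-!
# The total space is normal where the first three rows of `φ` are independent

* `exists_form`, `form_unique`: forms of degree `d` whose restriction to the plane of the first three variables is divisible
  by `qf c` are determined by their coefficients outside `IsJ hn`, which are arbitrary;
* `totEquiv`: `RD hn (FU n d k)` is a localization of a polynomial ring; `isIntegrallyClosed_total` (H3).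
-/

set_option autoImplicit false

universe u

open CategoryTheory CategoryTheory.Limits AlgebraicGeometry

namespace K227.HTot

open K745.ConDef K745.HDef W4swstmapratcurves Groth.Agent.Lefpen.H701 K227.HRem K227.HDiv

variable {n d : ℕ}

section Forms

variable (hn : 2 ≤ n) {S : Type u} [CommRing S]

theorem row3_injective : Function.Injective (row3 hn) := fun i j h => by
  have := congrArg Fin.val h
  exact Fin.ext this

/-- The exponent only involves the first three variables, the first one at most once. -/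
def IsJ (ν : FI n d) : Prop := ∃ β : Fin 3 →₀ ℕ, β 0 ≤ 1 ∧ ν.1 = Finsupp.mapDomain (row3 hn) β

variable (n d) in
/-- The other exponents. -/
abbrev KI : Type := {ν : FI n d // ¬ IsJ hn ν}

theorem pl_rename (R : MvPolynomial (Fin 3) S) : pl (MvPolynomial.rename (row3 hn) R) = R := by
  have h : (pl : MvPolynomial (Fin (n + 1)) S →ₐ[S] _).comp (MvPolynomial.rename (row3 hn)) = AlgHom.id S _ := by
    apply MvPolynomial.algHom_ext
    intro i
    rw [AlgHom.comp_apply, MvPolynomial.rename_X, pl_row3]
    rfl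
  exact DFunLike.congr_fun h R

theorem exists_form (c : Fin 5 → S) (x : KI n d hn → S) :
    ∃ F : MvPolynomial (Fin (n + 1)) S, F.IsHomogeneous d ∧ qf c ∣ pl F ∧
      ∀ ν : KI n d hn, F.coeff ν.1.1 = x ν := by
  classical
  have hfin : Finite (KI n d hn) := inferInstance
  let _ : Fintype (KI n d hn) := Fintype.ofFinite _
  let F0 : MvPolynomial (Fin (n + 1)) S := ∑ ν : KI n d hn, MvPolynomial.monomial ν.1.1 (x ν)
  have hF0 : F0.IsHomogeneous d :=
    MvPolynomial.IsHomogeneous.sum _ _ _ fun ν _ => MvPolynomial.isHomogeneous_monomial _ ν.1.2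
  obtain ⟨H, R, h1, h2, h3⟩ := exists_div c (isHomogeneous_pl hF0)
  refine ⟨F0 - MvPolynomial.rename (row3 hn) R, hF0.sub h2.rename_isHomogeneous, ⟨H, ?_⟩, fun ν => ?_⟩
  · rw [map_sub, pl_rename, h1]
    ring
  · have e1 : F0.coeff ν.1.1 = x ν := by
      rw [MvPolynomial.coeff_sum, Finset.sum_eq_single ν]
      · rw [MvPolynomial.coeff_monomial, if_pos rfl]
      · intro μ _ hμ
        rw [MvPolynomial.coeff_monomial, if_neg]
        intro h
        exact hμ (Subtype.ext (Subtype.ext h))
      · intro h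
        exact absurd (Finset.mem_univ _) h
    have e2 : (MvPolynomial.rename (row3 hn) R).coeff ν.1.1 = 0 := by
      apply MvPolynomial.coeff_rename_eq_zero
      intro u hu
      by_contra h0
      refine ν.2 ⟨u, ?_, hu.symm⟩
      exact (MvPolynomial.degreeOf_le_iff.1 h3) u (MvPolynomial.mem_support_iff.2 h0)
    rw [MvPolynomial.coeff_sub, e1, e2, sub_zero]

theorem form_unique (c : Fin 5 → S) {D : MvPolynomial (Fin (n + 1)) S} (hD : D.IsHomogeneous d)
    (hc : qf c ∣ pl D) (h0 : ∀ ν : KI n d hn, D.coeff ν.1.1 = 0) : D = 0 := by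
  classical
  have hJ (α : Fin (n + 1) →₀ ℕ) (hα : α ∈ D.support) :
      ∃ β : Fin 3 →₀ ℕ, β 0 ≤ 1 ∧ α = Finsupp.mapDomain (row3 hn) β := by
    by_contra h
    have := h0 ⟨⟨α, degree_of_mem hD hα⟩, h⟩
    exact MvPolynomial.mem_support_iff.1 hα this
  choose! β hβ using hJ
  let R : MvPolynomial (Fin 3) S := ∑ α ∈ D.support, MvPolynomial.monomial (β α) (D.coeff α)
  have hR : MvPolynomial.rename (row3 hn) R = D := by
    rw [map_sum]
    conv_rhs => rw [D.as_sum]
    refine Finset.sum_congr rfl fun α hα => ?_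
    rw [MvPolynomial.rename_monomial, ← (hβ α hα).2]
  have hR' : R.degreeOf 0 ≤ 1 := by
    refine (MvPolynomial.degreeOf_sum_le _ _ _).trans (Finset.sup_le fun α hα => ?_)
    rw [MvPolynomial.degreeOf_le_iff]
    intro γ hγ
    have := MvPolynomial.support_monomial_subset hγ
    rw [Finset.mem_singleton] at this
    rw [this]
    exact (hβ α hα).1
  have : pl D = R := by rw [← hR, pl_rename]
  rw [this] at hc
  rw [← hR, eq_zero_of_dvd c hc hR', map_zero]

theorem coeff_formOf (γ : FI n d → S) (ν : FI n d) : (formOf γ).coeff ν.1 = γ ν := by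
  classical
  rw [formOf, MvPolynomial.coeff_sum, Finset.sum_eq_single ν]
  · rw [MvPolynomial.coeff_monomial, if_pos rfl]
  · intro μ _ hμ
    rw [MvPolynomial.coeff_monomial, if_neg]
    intro h
    exact hμ (Subtype.ext h)
  · intro h
    exact absurd (Finset.mem_univ _) h

theorem isHomogeneous_formOf (γ : FI n d → S) : (formOf γ).IsHomogeneous d :=
  MvPolynomial.IsHomogeneous.sum _ _ _ fun ν _ => MvPolynomial.isHomogeneous_monomial _ ν.2

theorem formOf_coeff {F : MvPolynomial (Fin (n + 1)) S} (hF : F.IsHomogeneous d) :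
    formOf (fun ν : FI n d => F.coeff ν.1) = F := by
  apply MvPolynomial.ext
  intro α
  by_cases hα : α.degree = d
  · exact coeff_formOf _ ⟨α, hα⟩
  · have e1 := (isHomogeneous_formOf (fun ν : FI n d => F.coeff ν.1)).coeff_eq_zero (d := α) hα
    have e2 := hF.coeff_eq_zero (d := α) hα
    rw [e1, e2]

theorem map_formOf {S' : Type u} [CommRing S'] (β : S →+* S') (γ : FI n d → S) :
    (formOf γ).map β = formOf (fun ν => β (γ ν)) := by
  rw [formOf, formOf, map_sum]
  exact Finset.sum_congr rfl fun ν _ => MvPolynomial.map_monomial _ _ _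

theorem formOf_injective {γ γ' : FI n d → S} (h : formOf γ = formOf γ') : γ = γ' := by
  funext ν
  rw [← coeff_formOf γ, ← coeff_formOf γ', h]

theorem map_FU {k : Type u} [CommRing k] (ρ : MvPolynomial (FI n d) k →+* S) :
    (FU n d k).map ρ = formOf (fun ν => ρ (MvPolynomial.X ν)) := map_formOf _ _

theorem subF_FU {k : Type u} [CommRing k] (ρ : MvPolynomial (FI n d) k →+* S) (φ : Fin (n + 1) → Fin 3 → S) :
    subF ρ (FU n d k) φ = pl (fwd hn φ (formOf (fun ν => ρ (MvPolynomial.X ν)))) := by
  rw [pl_fwd, ← map_FU, subF_map]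
  rfl

theorem map_del {S' : Type u} [CommRing S'] (β : S →+* S') (φ : Fin (n + 1) → Fin 3 → S) :
    β (del hn φ) = del hn (fun l i => β (φ l i)) := by
  rw [del, det3, RingHom.map_det]
  rfl

theorem exists_inv (φ : Fin (n + 1) → Fin 3 → S) (h : IsUnit (del hn φ)) :
    ∃ N, M3 hn φ * N = 1 ∧ N * M3 hn φ = 1 :=
  ⟨(M3 hn φ)⁻¹, Matrix.mul_nonsing_inv _ h, Matrix.nonsing_inv_mul _ h⟩

end Forms

section Ring

variable (n d) (k : Type u) [Field k] (hn : 2 ≤ n)

/-- The polynomial ring. -/
abbrev AT : Type u := MvPolynomial (KI n d hn ⊕ (Fin 5 ⊕ (Fin (n + 1) × Fin 3))) k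

/-- The universal `φ` over `AT`. -/
noncomputable def φA (l : Fin (n + 1)) (i : Fin 3) : AT n d k hn := MvPolynomial.X (Sum.inr (Sum.inr (l, i)))

/-- The localization. -/
abbrev TT : Type u := Localization.Away (del hn (φA n d k hn))

theorem del_ne_zero : del hn (φA n d k hn) ≠ 0 := by
  intro h
  let e : AT n d k hn →+* k := MvPolynomial.eval (Sum.elim (fun _ => 0) (Sum.elim (fun _ => 0)
    fun p => if p.1.val = p.2.val then 1 else 0))
  have h1 := congrArg e h
  rw [map_del, map_zero, ← det_M3] at h1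
  have h2 : M3 hn (fun l i => e (φA n d k hn l i)) = 1 := by
    ext i j
    simp only [M3, Matrix.of_apply, e, φA, MvPolynomial.eval_X, Sum.elim_inr, Matrix.one_apply]
    congr 1
    exact propext ⟨fun h => Fin.ext h, fun h => congrArg Fin.val h⟩
  rw [h2, Matrix.det_one] at h1
  exact one_ne_zero h1

theorem powers_le : Submonoid.powers (del hn (φA n d k hn)) ≤ nonZeroDivisors (AT n d k hn) :=
  powers_le_nonZeroDivisors_of_noZeroDivisors (del_ne_zero n d k hn)

theorem isDomain_TT : IsDomain (TT n d k hn) :=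
  IsLocalization.isDomain_of_le_nonZeroDivisors _ (powers_le n d k hn)

theorem isIntegrallyClosed_TT : IsIntegrallyClosed (TT n d k hn) :=
  isIntegrallyClosed_of_isLocalization _ _ (powers_le n d k hn)

/-- The localization is a localization of a polynomial ring. -/
theorem exists_totEquiv : Nonempty (RD hn (FU n d k) ≃+* TT n d k hn) := by
  -- the data over the target
  let ιT : AT n d k hn →+* TT n d k hn := algebraMap _ _
  let cT : Fin 5 → TT n d k hn := fun i => ιT (MvPolynomial.X (Sum.inr (Sum.inl i)))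
  let φT : Fin (n + 1) → Fin 3 → TT n d k hn := fun l i => ιT (φA n d k hn l i)
  let xT : KI n d hn → TT n d k hn := fun ν => ιT (MvPolynomial.X (Sum.inl ν))
  have hδT : IsUnit (del hn φT) := by
    have := IsLocalization.Away.algebraMap_isUnit (S := TT n d k hn) (del hn (φA n d k hn))
    rw [map_del] at this
    exact this
  obtain ⟨NT, hNT, hNT'⟩ := exists_inv hn φT hδT
  obtain ⟨ΓT, hΓ1, hΓ2, hΓ3⟩ := exists_form hn cT xT
  let γT : FI n d → TT n d k hn := fun ν => (bwd hn φT NT ΓT).coeff ν.1
  have hγT : formOf γT = bwd hn φT NT ΓT := formOf_coeff (isHomogeneous_bwd hn φT NT hΓ1)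
  have hγT' : fwd hn φT (formOf γT) = ΓT := by rw [hγT, fwd_bwd hn φT NT hNT']
  let ρT : MvPolynomial (FI n d) k →+* TT n d k hn := MvPolynomial.eval₂Hom (ιT.comp MvPolynomial.C) γT
  have hρT (ν : FI n d) : ρT (MvPolynomial.X ν) = γT ν := MvPolynomial.eval₂Hom_X' _ _ _
  have hdT : qf cT ∣ subF ρT (FU n d k) φT := by
    rw [subF_FU hn]
    simp only [hρT]
    rw [hγT']
    exact hΓ2
  obtain ⟨f₀, ⟨hf1, hf2, hf3⟩, -⟩ := existsUnique_RC ρT (FU n d k) cT φT hdT
  have hδ0 : IsUnit (f₀ (mkR (FU n d k) (del hn (φU n (MvPolynomial (FI n d) k))))) := by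
    rw [map_del, map_del]
    simp only [hf3]
    exact hδT
  let f : RD hn (FU n d k) →+* TT n d k hn := IsLocalization.Away.lift _ hδ0
  -- the data over the source
  let ιR : RC (FU n d k) →+* RD hn (FU n d k) := algebraMap _ _
  have hfι (a : RC (FU n d k)) : f (ιR a) = f₀ a := IsLocalization.Away.lift_eq _ _ a
  let cR : Fin 5 → RD hn (FU n d k) := fun i => ιR (mkR (FU n d k) (cU n _ i))
  let φR : Fin (n + 1) → Fin 3 → RD hn (FU n d k) := fun l i => ιR (mkR (FU n d k) (φU n _ l i))
  let ρR : MvPolynomial (FI n d) k →+* RD hn (FU n d k) := ιR.comp (algebraMap _ _)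
  let γR : FI n d → RD hn (FU n d k) := fun ν => ρR (MvPolynomial.X ν)
  have hδR : IsUnit (del hn φR) := by
    have h1 : IsUnit (ιR (mkR (FU n d k) (del hn (φU n (MvPolynomial (FI n d) k))))) :=
      IsLocalization.Away.algebraMap_isUnit _
    have h2 := (congrArg ιR (map_del hn (mkR (FU n d k)) (φU n (MvPolynomial (FI n d) k)))).trans
      (map_del hn ιR _)
    exact h2 ▸ h1
  obtain ⟨NR, hNR, hNR'⟩ := exists_inv hn φR hδR
  have hdR : qf cR ∣ pl (fwd hn φR (formOf γR)) := by
    have := dvd_of_RC (FU n d k) ιR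
    rw [subF_FU hn] at this
    exact this
  let h₀ : AT n d k hn →+* RD hn (FU n d k) := MvPolynomial.eval₂Hom (ρR.comp MvPolynomial.C)
    (Sum.elim (fun ν => (fwd hn φR (formOf γR)).coeff ν.1.1) (Sum.elim cR fun p => φR p.1 p.2))
  have hh1 (a : k) : h₀ (MvPolynomial.C a) = ρR (MvPolynomial.C a) := MvPolynomial.eval₂Hom_C _ _ _
  have hh2 (ν : KI n d hn) : h₀ (MvPolynomial.X (Sum.inl ν)) = (fwd hn φR (formOf γR)).coeff ν.1.1 :=
    MvPolynomial.eval₂Hom_X' _ _ _
  have hh3 (i : Fin 5) : h₀ (MvPolynomial.X (Sum.inr (Sum.inl i))) = cR i := MvPolynomial.eval₂Hom_X' _ _ _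
  have hh4 (l : Fin (n + 1)) (i : Fin 3) : h₀ (φA n d k hn l i) = φR l i := MvPolynomial.eval₂Hom_X' _ _ _
  have hδ0' : IsUnit (h₀ (del hn (φA n d k hn))) := by
    rw [map_del hn h₀]
    simp only [hh4]
    exact hδR
  let h : TT n d k hn →+* RD hn (FU n d k) := IsLocalization.Away.lift _ hδ0'
  have hhι (a : AT n d k hn) : h (ιT a) = h₀ a := IsLocalization.Away.lift_eq _ _ a
  -- values
  have fc (i : Fin 5) : f (cR i) = cT i := (hfι _).trans (hf2 i)
  have fφ (l : Fin (n + 1)) (i : Fin 3) : f (φR l i) = φT l i := (hfι _).trans (hf3 l i)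
  have fρ (a : MvPolynomial (FI n d) k) : f (ρR a) = ρT a := (hfι _).trans (RingHom.congr_fun hf1 a)
  have fγ (ν : FI n d) : f (γR ν) = γT ν := (fρ _).trans (hρT ν)
  have hc (i : Fin 5) : h (cT i) = cR i := (hhι _).trans (hh3 i)
  have hφ (l : Fin (n + 1)) (i : Fin 3) : h (φT l i) = φR l i := (hhι _).trans (hh4 l i)
  have hx (ν : KI n d hn) : h (xT ν) = (fwd hn φR (formOf γR)).coeff ν.1.1 := (hhι _).trans (hh2 ν)
  -- the second composition
  have hγ : (fun ν => h (γT ν)) = γR := by
    apply formOf_injective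
    have e1 : (ΓT.map h) = fwd hn φR (formOf fun ν => h (γT ν)) := by
      rw [← hγT', map_fwd, map_formOf]
      simp only [hφ]
    have e2 : ΓT.map h - fwd hn φR (formOf γR) = 0 := by
      refine form_unique hn cR (d := d) ((hΓ1.map h).sub (isHomogeneous_fwd hn _ (isHomogeneous_formOf _))) ?_ ?_
      · rw [map_sub]
        refine dvd_sub ?_ hdR
        have := map_dvd (MvPolynomial.map (σ := Fin 3) h) hΓ2
        rw [map_qf, map_pl] at this
        simp only [hc] at this
        exact this
      · intro ν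
        rw [MvPolynomial.coeff_sub, MvPolynomial.coeff_map, hΓ3, hx, sub_self]
    have e3 := sub_eq_zero.1 e2
    rw [e1] at e3
    have e4 := congrArg (bwd hn φR NR) e3
    rwa [bwd_fwd hn φR NR hNR, bwd_fwd hn φR NR hNR] at e4
  have H1 : h.comp f = RingHom.id _ := by
    apply IsLocalization.ringHom_ext (Submonoid.powers (mkR (FU n d k) (del hn (φU n (MvPolynomial (FI n d) k)))))
    apply ringHom_ext_RC
    · apply MvPolynomial.ringHom_ext
      · intro a
        change h (f (ρR (MvPolynomial.C a))) = ρR (MvPolynomial.C a)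
        rw [fρ]
        refine (congrArg h (MvPolynomial.eval₂Hom_C _ _ a)).trans ?_
        exact (hhι _).trans (hh1 a)
      · intro ν
        change h (f (γR ν)) = γR ν
        rw [fγ, ← hγ]
    · intro i
      change h (f (cR i)) = cR i
      rw [fc, hc]
    · intro l i
      change h (f (φR l i)) = φR l i
      rw [fφ, hφ]
  have H2 : f.comp h = RingHom.id _ := by
    apply IsLocalization.ringHom_ext (Submonoid.powers (del hn (φA n d k hn)))
    apply MvPolynomial.ringHom_ext
    · intro a
      change f (h (ιT (MvPolynomial.C a))) = ιT (MvPolynomial.C a)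
      rw [hhι, hh1, fρ]
      exact MvPolynomial.eval₂Hom_C _ _ a
    · rintro (ν | (i | ⟨l, i⟩))
      · change f (h (xT ν)) = xT ν
        rw [hx, ← MvPolynomial.coeff_map, map_fwd, map_formOf]
        simp only [fφ, fγ]
        rw [hγT', hΓ3]
      · change f (h (cT i)) = cT i
        rw [hc, fc]
      · change f (h (φT l i)) = φT l i
        rw [hφ, fφ]
  exact ⟨RingEquiv.ofRingHom f h H2 H1⟩

end Ring

/-- Node H3: the total space is normal where the first three rows of `φ` are independent. -/
theorem isIntegrallyClosed_total (k : Type u) [Field k] (hn : 2 ≤ n) :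
    IsDomain (RD hn (FU n d k)) ∧ IsIntegrallyClosed (RD hn (FU n d k)) := by
  obtain ⟨e⟩ := exists_totEquiv n d k hn
  have h1 := isDomain_TT n d k hn
  have h2 := isIntegrallyClosed_TT n d k hn
  exact ⟨e.toMulEquiv.isDomain _, IsIntegrallyClosed.of_equiv e.symm⟩

end K227.HTot
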