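import Groth.Agent.Fano.K227.HDiv
import Mathlib.RingTheory.MvPolynomial.EulerIdentity
import Mathlib.LinearAlgebra.Matrix.NonsingularInverse
import Mathlib.LinearAlgebra.Matrix.ToLin

/-!
# Unobstructedness is a condition on minors

* `rcL c β`: the coefficient at `β` of the remainder modulo `qf c`; `mat d ρ G c φ`: the matrix of
  `v ↦ Σ_l ∂_l G ∘ φ * lin3 (v l)` modulo `qf c`; `unob_iff_surjective`;
* `surjective_mulVec_iff`: over a field, surjectivity is the nonvanishing of a maximal minor;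
* `isOpen_unobPt` (H12), `unob_map_iff` (H13), `unob_iff_of_matrix` (H14).
-/

set_option autoImplicit false

universe u

open CategoryTheory CategoryTheory.Limits AlgebraicGeometry

namespace K227.HUn

open K745.ConDef K745.HDef W4swstmapratcurves Groth.Agent.Lefpen.H701 K227.HRem K227.HDiv

variable {n d : ℕ}

section Rem

variable {A : Type u} [CommRing A]

/-- Exponents of degree `d` with first exponent at most one. -/
abbrev BI (d : ℕ) : Type := {β : Fin 3 →₀ ℕ // β.degree = d ∧ β 0 ≤ 1}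

instance (d : ℕ) : Finite (BI d) := by
  have : Finite {β : Fin 3 →₀ ℕ // β.degree = d} := Finsupp.finite_of_degree_eq d
  exact Finite.of_injective (fun β : BI d => (⟨β.1, β.2.1⟩ : {β : Fin 3 →₀ ℕ // β.degree = d}))
    fun β γ h => Subtype.ext (by
      have h' := congrArg Subtype.val h
      exact h')

noncomputable instance (d : ℕ) : Fintype (BI d) := Fintype.ofFinite _

/-- The coefficient at `β` of the remainder modulo `qf c`. -/
noncomputable def rcL (c : Fin 5 → A) (β : Fin 3 →₀ ℕ) : MvPolynomial (Fin 3) A →ₗ[A] A where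
  toFun F := remCoeff c F (β 0) (Finsupp.tail β)
  map_add' F G := by
    rw [remCoeff, map_add, Polynomial.add_modByMonic, Polynomial.coeff_add, MvPolynomial.coeff_add]
    rfl
  map_smul' a F := by
    rw [remCoeff, MvPolynomial.smul_eq_C_mul, map_mul, fse_C, ← Polynomial.smul_eq_C_mul,
      Polynomial.smul_modByMonic, Polynomial.coeff_smul, smul_eq_mul, MvPolynomial.coeff_C_mul]
    rfl

theorem rcL_apply (c : Fin 5 → A) (β : Fin 3 →₀ ℕ) (F : MvPolynomial (Fin 3) A) :
    rcL c β F = remCoeff c F (β 0) (Finsupp.tail β) := rfl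

theorem rcL_of_le (c : Fin 5 → A) (β : Fin 3 →₀ ℕ) {R : MvPolynomial (Fin 3) A} (hR : R.degreeOf 0 ≤ 1) :
    rcL c β R = R.coeff β := by
  nontriviality A
  have h : MvPolynomial.finSuccEquiv A 2 R %ₘ MvPolynomial.finSuccEquiv A 2 (qf c) =
      MvPolynomial.finSuccEquiv A 2 R := by
    rw [Polynomial.modByMonic_eq_self_iff (monic_fse_qf c),
      Polynomial.degree_eq_natDegree (monic_fse_qf c).ne_zero, natDegree_fse_qf]
    by_cases h0 : R = 0
    · rw [h0, map_zero, Polynomial.degree_zero]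
      exact WithBot.bot_lt_coe _
    · rw [MvPolynomial.degree_finSuccEquiv h0]
      exact_mod_cast Nat.lt_succ_of_le hR
  rw [rcL_apply, remCoeff, h, MvPolynomial.finSuccEquiv_coeff_coeff, Finsupp.cons_tail]

theorem rcL_mul_qf (c : Fin 5 → A) (β : Fin 3 →₀ ℕ) (H : MvPolynomial (Fin 3) A) : rcL c β (H * qf c) = 0 :=
  (dvd_iff_remCoeff c _).1 (dvd_mul_left _ _) _ _

theorem dvd_of_rcL (c : Fin 5 → A) {F : MvPolynomial (Fin 3) A} (hF : F.IsHomogeneous d)
    (h : ∀ β : BI d, rcL c β.1 F = 0) : qf c ∣ F := by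
  obtain ⟨H, R, rfl, hR, hR'⟩ := exists_div c hF
  have h0 : R = 0 := by
    apply MvPolynomial.ext
    intro α
    rw [MvPolynomial.coeff_zero]
    by_contra h1
    have hα := MvPolynomial.mem_support_iff.2 h1
    have h2 := h ⟨α, degree_of_mem hR hα, (MvPolynomial.degreeOf_le_iff.1 hR') α hα⟩
    rw [map_add, rcL_mul_qf, zero_add, rcL_of_le c _ hR'] at h2
    exact h1 h2
  rw [h0, add_zero]
  exact dvd_mul_left _ _

theorem exists_rcL (c : Fin 5 → A) (y : BI d → A) :
    ∃ F : MvPolynomial (Fin 3) A, F.IsHomogeneous d ∧ ∀ β : BI d, rcL c β.1 F = y β := by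
  classical
  let F : MvPolynomial (Fin 3) A := ∑ β : BI d, MvPolynomial.monomial β.1 (y β)
  have hF : F.degreeOf 0 ≤ 1 := by
    refine (MvPolynomial.degreeOf_sum_le _ _ _).trans (Finset.sup_le fun α _ => ?_)
    rw [MvPolynomial.degreeOf_le_iff]
    intro γ hγ
    have := MvPolynomial.support_monomial_subset hγ
    rw [Finset.mem_singleton] at this
    rw [this]
    exact α.2.2
  refine ⟨F, MvPolynomial.IsHomogeneous.sum _ _ _ fun β _ => MvPolynomial.isHomogeneous_monomial _ β.2.1,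
    fun β => ?_⟩
  rw [rcL_of_le c _ hF, MvPolynomial.coeff_sum, Finset.sum_eq_single β]
  · rw [MvPolynomial.coeff_monomial, if_pos rfl]
  · intro μ _ hμ
    rw [MvPolynomial.coeff_monomial, if_neg]
    intro h
    exact hμ (Subtype.ext h)
  · intro h
    exact absurd (Finset.mem_univ _) h

theorem map_rcL {B : Type u} [CommRing B] (β : A →+* B) (c : Fin 5 → A) (α : Fin 3 →₀ ℕ)
    (F : MvPolynomial (Fin 3) A) : β (rcL c α F) = rcL (fun i => β (c i)) α (F.map β) :=
  map_remCoeff β c F _ _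

theorem isHomogeneous_lin3 (v : Fin 3 → A) : (lin3 v).IsHomogeneous 1 :=
  MvPolynomial.IsHomogeneous.sum _ _ _ fun _ _ => MvPolynomial.isHomogeneous_C_mul_X _ _

theorem isHomogeneous_subF {R : Type u} [CommRing R] (ρ : R →+* A) {G : MvPolynomial (Fin (n + 1)) R}
    (hG : G.IsHomogeneous d) (φ : Fin (n + 1) → Fin 3 → A) : (subF ρ G φ).IsHomogeneous d := by
  have := hG.eval₂ (MvPolynomial.C.comp ρ : R →+* MvPolynomial (Fin 3) A) (fun l => lin3 (φ l)) (n := 1)
    (fun r => MvPolynomial.isHomogeneous_C _ _) (fun l => isHomogeneous_lin3 _)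
  rwa [one_mul] at this

/-- The matrix of `v ↦ Σ_l ∂_l G ∘ φ * lin3 (v l)` modulo `qf c`. -/
noncomputable def mat (d : ℕ) {R : Type u} [CommRing R] (ρ : R →+* A) (G : MvPolynomial (Fin (n + 1)) R)
    (c : Fin 5 → A) (φ : Fin (n + 1) → Fin 3 → A) : Matrix (BI d) (Fin (n + 1) × Fin 3) A :=
  fun β p => rcL c β.1 (dG ρ G φ p.1 * MvPolynomial.X p.2)

theorem mat_mulVec {R : Type u} [CommRing R] (ρ : R →+* A) (G : MvPolynomial (Fin (n + 1)) R)
    (c : Fin 5 → A) (φ : Fin (n + 1) → Fin 3 → A) (v : Fin (n + 1) × Fin 3 → A) (β : BI d) :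
    ((mat d ρ G c φ).mulVec v) β = rcL c β.1 (∑ l, dG ρ G φ l * lin3 fun j => v (l, j)) := by
  have h : ∑ l, dG ρ G φ l * lin3 (fun j => v (l, j)) =
      ∑ p : Fin (n + 1) × Fin 3, v p • (dG ρ G φ p.1 * MvPolynomial.X p.2) := by
    rw [Fintype.sum_prod_type]
    refine Finset.sum_congr rfl fun l _ => ?_
    rw [lin3, Finset.mul_sum]
    refine Finset.sum_congr rfl fun j _ => ?_
    rw [MvPolynomial.smul_eq_C_mul]
    ring
  rw [h, map_sum]
  refine Finset.sum_congr rfl fun p _ => ?_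
  rw [map_smul, smul_eq_mul, mul_comm]
  rfl

theorem unob_iff_surjective {R : Type u} [CommRing R] (ρ : R →+* A) (G : MvPolynomial (Fin (n + 1)) R)
    (hd : 1 ≤ d) (hG : G.IsHomogeneous d) (c : Fin 5 → A) (φ : Fin (n + 1) → Fin 3 → A) :
    Unob d ρ G c φ ↔ Function.Surjective (mat d ρ G c φ).mulVec := by
  have hdeg (v : Fin (n + 1) × Fin 3 → A) : (∑ l, dG ρ G φ l * lin3 fun j => v (l, j)).IsHomogeneous d := by
    refine MvPolynomial.IsHomogeneous.sum _ _ _ fun l _ => ?_
    have h1 : (dG ρ G φ l).IsHomogeneous (d - 1) := isHomogeneous_subF ρ hG.pderiv φ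
    have := h1.mul (isHomogeneous_lin3 fun j => v (l, j))
    rwa [Nat.sub_add_cancel hd] at this
  constructor
  · intro h y
    obtain ⟨F, hF, hy⟩ := exists_rcL (d := d) c y
    obtain ⟨v, H, rfl⟩ := h F hF
    refine ⟨fun p => v p.1 p.2, ?_⟩
    funext β
    rw [mat_mulVec, ← hy β, map_add, rcL_mul_qf, add_zero]
  · intro h F hF
    obtain ⟨v, hv⟩ := h fun β => rcL c β.1 F
    have h1 : qf c ∣ F - ∑ l, dG ρ G φ l * lin3 fun j => v (l, j) := by
      refine dvd_of_rcL c (hF.sub (hdeg v)) fun β => ?_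
      rw [map_sub, ← mat_mulVec, hv, sub_self]
    obtain ⟨H, hH⟩ := h1
    refine ⟨fun l j => v (l, j), H, ?_⟩
    rw [mul_comm H, ← hH]
    ring

theorem map_mat {R B : Type u} [CommRing R] [CommRing B] (ρ : R →+* A) (β : A →+* B)
    (G : MvPolynomial (Fin (n + 1)) R) (c : Fin 5 → A) (φ : Fin (n + 1) → Fin 3 → A) :
    (mat d ρ G c φ).map β = mat d (β.comp ρ) G (fun i => β (c i)) (fun l i => β (φ l i)) := by
  funext α p
  rw [Matrix.map_apply, mat, map_rcL, map_mul, MvPolynomial.map_X, dG, map_subF]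
  rfl

end Rem

section Minors

variable {ι κ : Type*} [Fintype ι] [DecidableEq ι] [Fintype κ] [DecidableEq κ]

theorem surjective_mulVec_iff {K : Type*} [Field K] (M : Matrix ι κ K) :
    Function.Surjective M.mulVec ↔ ∃ s : ι → κ, (M.submatrix id s).det ≠ 0 := by
  constructor
  · intro h
    have hspan : Submodule.span K (Set.range M.col) = ⊤ := by
      rw [eq_top_iff]
      intro y _
      obtain ⟨x, rfl⟩ := h y
      rw [Matrix.mulVec_eq_sum]
      refine Submodule.sum_mem _ fun j _ => ?_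
      rw [op_smul_eq_smul]
      exact Submodule.smul_mem _ _ (Submodule.subset_span ⟨j, rfl⟩)
    obtain ⟨b, hb1, hb2, hb3⟩ := exists_linearIndependent K (Set.range M.col)
    rw [hspan] at hb2
    have hb4 : Submodule.span K (Set.range (Subtype.val : b → ι → K)) = ⊤ := by
      rw [Subtype.range_coe]
      exact hb2
    let B : Module.Basis b K (ι → K) := Module.Basis.mk hb3 hb4.ge
    let e : ι ≃ b := (Pi.basisFun K ι).indexEquiv B
    have hs : ∀ i, ∃ j, M.col j = (e i : ι → K) := fun i => hb1 (e i).2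
    choose s hs using hs
    refine ⟨s, ?_⟩
    rw [← isUnit_iff_ne_zero, ← Matrix.isUnit_iff_isUnit_det, ← Matrix.linearIndependent_cols_iff_isUnit]
    have h1 : (M.submatrix id s).col = (Subtype.val : b → ι → K) ∘ e := by
      funext i
      exact hs i
    rw [h1]
    exact hb3.comp _ e.injective
  · rintro ⟨s, hs⟩ y
    have hu : IsUnit (M.submatrix id s).det := isUnit_iff_ne_zero.2 hs
    let w : ι → K := ((M.submatrix id s)⁻¹).mulVec y
    refine ⟨∑ i, Pi.single (s i) (w i), ?_⟩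
    have h1 : M.mulVec (∑ i, Pi.single (s i) (w i)) = (M.submatrix id s).mulVec w := by
      rw [Matrix.mulVec_sum]
      funext a
      rw [Finset.sum_apply]
      refine Finset.sum_congr rfl fun i _ => ?_
      rw [Matrix.mulVec_single]
      rfl
    rw [h1, Matrix.mulVec_mulVec, Matrix.mul_nonsing_inv _ hu, Matrix.one_mulVec]

end Minors

section Main

/-- Node H13: extension of the field. -/
theorem unob_map_iff {R K K' : Type u} [CommRing R] [Field K] [Field K'] (ρ : R →+* K) (β : K →+* K')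
    (G : MvPolynomial (Fin (n + 1)) R) (hd : 1 ≤ d) (hG : G.IsHomogeneous d) (c : Fin 5 → K)
    (φ : Fin (n + 1) → Fin 3 → K) :
    Unob d (β.comp ρ) G (fun i => β (c i)) (fun l i => β (φ l i)) ↔ Unob d ρ G c φ := by
  classical
  rw [unob_iff_surjective _ G hd hG, unob_iff_surjective _ G hd hG, ← map_mat, surjective_mulVec_iff,
    surjective_mulVec_iff]
  refine exists_congr fun s => ?_
  rw [← map_ne_zero β, RingHom.map_det]
  rfl

/-- Node H12: openness. -/
theorem isOpen_unobPt {R : Type u} [CommRing R] (G : MvPolynomial (Fin (n + 1)) R) (hd : 1 ≤ d)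
    (hG : G.IsHomogeneous d) : IsOpen {p : PrimeSpectrum (RC G) | UnobPt d G p} := by
  classical
  let M := mat d (algebraMap R (RC G)) G (fun i => mkR G (cU n R i)) (fun l i => mkR G (φU n R l i))
  have h : {p : PrimeSpectrum (RC G) | UnobPt d G p} =
      ⋃ s : BI d → Fin (n + 1) × Fin 3, (PrimeSpectrum.basicOpen (M.submatrix id s).det : Set _) := by
    ext p
    rw [Set.mem_ofPred_eq, UnobPt, UnobAt, unob_iff_surjective _ G hd hG, ← map_mat, surjective_mulVec_iff,
      Set.mem_iUnion]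
    refine exists_congr fun s => ?_
    rw [SetLike.mem_coe, PrimeSpectrum.mem_basicOpen, ← Ideal.algebraMap_residueField_eq_zero, RingHom.map_det]
    rfl
  rw [h]
  exact isOpen_iUnion fun s => (PrimeSpectrum.basicOpen _).isOpen

theorem comp3_subF {R K : Type u} [CommRing R] [CommRing K] (ρ : R →+* K) (G : MvPolynomial (Fin (n + 1)) R)
    (φ φ' : Fin (n + 1) → Fin 3 → K) (g : Matrix (Fin 3) (Fin 3) K) (hφ : ∀ l j, φ l j = ∑ i, φ' l i * g i j) :
    comp3 (subF ρ G φ') g = subF ρ G φ := by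
  have hl (l : Fin (n + 1)) : comp3 (lin3 (φ' l)) g = lin3 (φ l) := by
    rw [comp3, lin3, map_sum]
    simp only [map_mul, MvPolynomial.algHom_C, MvPolynomial.algebraMap_eq, MvPolynomial.aeval_X, lin3, hφ, map_sum,
      Finset.mul_sum, Finset.sum_mul]
    rw [Finset.sum_comm]
    refine Finset.sum_congr rfl fun j _ => Finset.sum_congr rfl fun i _ => ?_
    ring
  change (MvPolynomial.aeval (fun i => lin3 (g i)) : _ →ₐ[K] MvPolynomial (Fin 3) K).toRingHom (subF ρ G φ') = _
  rw [subF, subF, MvPolynomial.hom_eval₂]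
  congr 1
  · ext a
    simp
  · funext l
    exact hl l

theorem comp3_comp3 {K : Type u} [CommRing K] (F : MvPolynomial (Fin 3) K) (g h : Matrix (Fin 3) (Fin 3) K) :
    comp3 (comp3 F g) h = comp3 F (g * h) := by
  have : (MvPolynomial.aeval (fun i => lin3 (h i)) : _ →ₐ[K] MvPolynomial (Fin 3) K).comp
      (MvPolynomial.aeval (fun i => lin3 (g i))) = MvPolynomial.aeval (fun i => lin3 ((g * h) i)) := by
    apply MvPolynomial.algHom_ext
    intro i
    rw [AlgHom.comp_apply, MvPolynomial.aeval_X, MvPolynomial.aeval_X, lin3, map_sum]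
    simp only [map_mul, MvPolynomial.algHom_C, MvPolynomial.algebraMap_eq, MvPolynomial.aeval_X, lin3,
      Matrix.mul_apply, map_sum, Finset.mul_sum, Finset.sum_mul]
    rw [Finset.sum_comm]
    refine Finset.sum_congr rfl fun j _ => Finset.sum_congr rfl fun i _ => ?_
    ring
  exact DFunLike.congr_fun this F

theorem comp3_one {K : Type u} [CommRing K] (F : MvPolynomial (Fin 3) K) :
    comp3 F (1 : Matrix (Fin 3) (Fin 3) K) = F := by
  have : (MvPolynomial.aeval (fun i => lin3 ((1 : Matrix (Fin 3) (Fin 3) K) i)) :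
      _ →ₐ[K] MvPolynomial (Fin 3) K) = AlgHom.id K _ := by
    apply MvPolynomial.algHom_ext
    intro i
    rw [MvPolynomial.aeval_X, lin3, Finset.sum_eq_single i]
    · simp
    · intro j _ hj
      rw [Matrix.one_apply_ne (Ne.symm hj), map_zero, zero_mul]
    · intro h
      exact absurd (Finset.mem_univ i) h
  exact DFunLike.congr_fun this F

theorem isHomogeneous_comp3 {K : Type u} [CommRing K] {F : MvPolynomial (Fin 3) K} (hF : F.IsHomogeneous d)
    (g : Matrix (Fin 3) (Fin 3) K) : (comp3 F g).IsHomogeneous d := by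
  have := hF.aeval (fun i => lin3 (g i)) (n := 1) (fun l => isHomogeneous_lin3 _)
  rwa [one_mul] at this

theorem unob_of_matrix {R K : Type u} [CommRing R] [CommRing K] (ρ : R →+* K)
    (G : MvPolynomial (Fin (n + 1)) R) (c c' : Fin 5 → K) (φ φ' : Fin (n + 1) → Fin 3 → K)
    (g g' : Matrix (Fin 3) (Fin 3) K) (hg : g' * g = 1) (w : K)
    (hq : comp3 (qf c') g = MvPolynomial.C w * qf c) (hφ : ∀ l j, φ l j = ∑ i, φ' l i * g i j)
    (h : Unob d ρ G c' φ') : Unob d ρ G c φ := by
  intro F hF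
  obtain ⟨v, H, hv⟩ := h (comp3 F g') (isHomogeneous_comp3 hF g')
  refine ⟨fun l j => ∑ i, v l i * g i j, comp3 H g * MvPolynomial.C w, ?_⟩
  have h1 : comp3 (comp3 F g') g = comp3 (∑ l, dG ρ G φ' l * lin3 (v l) + H * qf c') g :=
    congrArg (fun P => comp3 P g) hv
  rw [comp3_comp3, hg, comp3_one] at h1
  have hadd (P Q : MvPolynomial (Fin 3) K) : comp3 (P + Q) g = comp3 P g + comp3 Q g := map_add _ _ _
  have hmul (P Q : MvPolynomial (Fin 3) K) : comp3 (P * Q) g = comp3 P g * comp3 Q g := map_mul _ _ _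
  have hsum (P : Fin (n + 1) → MvPolynomial (Fin 3) K) : comp3 (∑ l, P l) g = ∑ l, comp3 (P l) g :=
    map_sum _ _ _
  have hlin (l : Fin (n + 1)) : comp3 (lin3 (v l)) g = lin3 fun j => ∑ i, v l i * g i j := by
    rw [comp3, lin3, map_sum]
    simp only [map_mul, MvPolynomial.algHom_C, MvPolynomial.algebraMap_eq, MvPolynomial.aeval_X, lin3, map_sum,
      Finset.mul_sum, Finset.sum_mul]
    rw [Finset.sum_comm]
    refine Finset.sum_congr rfl fun j _ => Finset.sum_congr rfl fun i _ => ?_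
    ring
  rw [h1, hadd, hmul, hq, hsum]
  congr 1
  · refine Finset.sum_congr rfl fun l _ => ?_
    rw [hmul, hlin, dG, comp3_subF ρ _ φ φ' g hφ]
    rfl
  · ring

/-- Node H14: change of coordinates. -/
theorem unob_iff_of_matrix {R K : Type u} [CommRing R] [CommRing K] (ρ : R →+* K)
    (G : MvPolynomial (Fin (n + 1)) R) (c c' : Fin 5 → K) (φ φ' : Fin (n + 1) → Fin 3 → K)
    (g : Matrix (Fin 3) (Fin 3) K) (hg : IsUnit g.det) (w : K) (hw : IsUnit w)
    (hq : comp3 (qf c') g = MvPolynomial.C w * qf c) (hφ : ∀ l j, φ l j = ∑ i, φ' l i * g i j) :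
    Unob d ρ G c φ ↔ Unob d ρ G c' φ' := by
  have hg1 : g * g⁻¹ = 1 := Matrix.mul_nonsing_inv _ hg
  have hg2 : g⁻¹ * g = 1 := Matrix.nonsing_inv_mul _ hg
  obtain ⟨w', hw'⟩ := hw
  refine ⟨fun h => unob_of_matrix ρ G c' c φ' φ g⁻¹ g hg1 (↑w'⁻¹ : K) ?_ ?_ h,
    fun h => unob_of_matrix ρ G c c' φ φ' g g⁻¹ hg2 w hq hφ h⟩
  · have h1 : comp3 (comp3 (qf c') g) g⁻¹ = comp3 (MvPolynomial.C w * qf c) g⁻¹ :=
      congrArg (fun P => comp3 P g⁻¹) hq
    rw [comp3_comp3, hg1, comp3_one] at h1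
    have hmul : comp3 (MvPolynomial.C w * qf c) g⁻¹ = MvPolynomial.C w * comp3 (qf c) g⁻¹ := by
      rw [comp3, map_mul, MvPolynomial.algHom_C, MvPolynomial.algebraMap_eq]
      rfl
    rw [h1, hmul, ← mul_assoc, ← map_mul, ← hw', Units.inv_mul, map_one, one_mul]
  · intro l j
    have h2 : (Matrix.of φ) = (Matrix.of φ') * g := by
      ext a b
      exact hφ a b
    have h3 : (Matrix.of φ) * g⁻¹ = Matrix.of φ' := by
      rw [h2, Matrix.mul_assoc, hg1, Matrix.mul_one]
    have h4 := congrFun (congrFun h3 l) j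
    rw [Matrix.mul_apply] at h4
    exact h4.symm

end Main

end K227.HUn
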